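import Mathlib

/-!
# `K[[x, y]]/(xy)` is reduced
-/

namespace Groth.Agent.H8.NodalNormal

open MvPowerSeries

section Prime

variable {σ : Type*} {K : Type*} [CommRing K] [IsDomain K]

/-- the part of a power series not involving the variable `s` -/
noncomputable def part0 (s : σ) (φ : MvPowerSeries σ K) : MvPowerSeries σ K :=
  fun m => if m s = 0 then coeff m φ else 0

theorem coeff_part0 (s : σ) (φ : MvPowerSeries σ K) (m : σ →₀ ℕ) :
    coeff m (part0 s φ) = if m s = 0 then coeff m φ else 0 := rfl

theorem X_dvd_iff_part0 (s : σ) (φ : MvPowerSeries σ K) :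
    (X s : MvPowerSeries σ K) ∣ φ ↔ part0 s φ = 0 := by
  rw [X_dvd_iff]
  constructor
  · intro h
    ext m
    rw [coeff_part0, map_zero]
    split_ifs with hm
    · exact h m hm
    · rfl
  · intro h m hm
    have h1 := congrArg (coeff m) h
    rw [coeff_part0, if_pos hm, map_zero] at h1
    exact h1

theorem part0_mul (s : σ) (φ ψ : MvPowerSeries σ K) :
    part0 s (φ * ψ) = part0 s φ * part0 s ψ := by
  classical
  ext m
  rw [coeff_part0, coeff_mul, coeff_mul]
  split_ifs with hm
  · apply Finset.sum_congr rfl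
    rintro ⟨p, q⟩ hpq
    rw [Finset.HasAntidiagonal.mem_antidiagonal] at hpq
    have h1 : p s + q s = 0 := by
      have := congrArg (fun t : σ →₀ ℕ => t s) hpq
      simpa [hm] using this
    have hp : p s = 0 := by omega
    have hq : q s = 0 := by omega
    rw [coeff_part0, coeff_part0, if_pos hp, if_pos hq]
  · symm
    apply Finset.sum_eq_zero
    rintro ⟨p, q⟩ hpq
    rw [Finset.HasAntidiagonal.mem_antidiagonal] at hpq
    have h1 : p s + q s = m s := by
      have := congrArg (fun t : σ →₀ ℕ => t s) hpq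
      simpa using this
    rw [coeff_part0, coeff_part0]
    by_cases hp : p s = 0
    · have hq : q s ≠ 0 := by omega
      rw [if_neg hq, mul_zero]
    · rw [if_neg hp, zero_mul]

theorem X_prime' (s : σ) : Prime (X s : MvPowerSeries σ K) := by
  classical
  refine ⟨?_, ?_, ?_⟩
  · intro h
    have h1 := congrArg (coeff (Finsupp.single s 1)) h
    rw [coeff_X, if_pos rfl, map_zero] at h1
    exact one_ne_zero h1
  · intro hu
    rw [MvPowerSeries.isUnit_iff_constantCoeff, constantCoeff_X] at hu
    exact not_isUnit_zero hu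
  · intro a b hab
    rw [X_dvd_iff_part0] at hab ⊢
    rw [X_dvd_iff_part0]
    rw [part0_mul] at hab
    exact mul_eq_zero.1 hab

end Prime

theorem isReduced_quot (K : Type*) [Field K] :
    IsReduced (MvPowerSeries (Fin 2) K ⧸
      Ideal.span {(X 0 * X 1 : MvPowerSeries (Fin 2) K)}) := by
  classical
  constructor
  intro z hz
  obtain ⟨a, rfl⟩ := Ideal.Quotient.mk_surjective z
  obtain ⟨n, hn⟩ := hz
  rw [← map_pow, Ideal.Quotient.eq_zero_iff_mem, Ideal.mem_span_singleton] at hn
  rw [Ideal.Quotient.eq_zero_iff_mem, Ideal.mem_span_singleton]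
  have h0 : (X 0 : MvPowerSeries (Fin 2) K) ∣ a :=
    (X_prime' 0).dvd_of_dvd_pow ((dvd_mul_right _ _).trans hn)
  have h1 : (X 1 : MvPowerSeries (Fin 2) K) ∣ a :=
    (X_prime' 1).dvd_of_dvd_pow ((dvd_mul_left _ _).trans hn)
  obtain ⟨g, rfl⟩ := h0
  have h2 : (X 1 : MvPowerSeries (Fin 2) K) ∣ g := by
    rcases (X_prime' 1).dvd_or_dvd h1 with h | h
    · exfalso
      rw [X_dvd_iff] at h
      have h3 := h (Finsupp.single 0 1) (by simp)
      rw [coeff_X, if_pos rfl] at h3
      exact one_ne_zero h3
    · exact h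
  exact mul_dvd_mul_left _ h2

end Groth.Agent.H8.NodalNormal
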