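import Mathlib
import Groth.Prelude.Def_CurvBase
import Groth.Agent.Lib.Helper8.NodalNormal.PS
import Groth.Agent.Lib.Helper8.Hens.SmoothReduced
import Groth.Agent.Lib.Helper1.StalkGen

/-!
# Schemes locally of finite type over a field with at-worst-nodal singularities are reduced
-/

set_option linter.style.haveILetI false

universe u

open AlgebraicGeometry CategoryTheory CategoryTheory.Limits TopologicalSpace

namespace Groth.Agent.H8.NodalNormal

/-- The stalks of a scheme smooth over a field are reduced. -/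
theorem isReduced_stalk_of_smooth (k : Type u) [Field k] (Y : Scheme.{u})
    (g : Y ⟶ Spec (CommRingCat.of k)) [Smooth g] (y : Y) :
    _root_.IsReduced (Y.presheaf.stalk y) := by
  obtain ⟨_, ⟨V, hV, rfl⟩, hyV, -⟩ :=
    Y.isBasis_affineOpens.exists_subset_of_mem_open (Set.mem_univ y) isOpen_univ
  have hsm : (g.appLE ⊤ V le_top).hom.Smooth := g.smooth_appLE (isAffineOpen_top _) hV le_top
  let φ : k →+* Γ(Y, V) :=
    (g.appLE ⊤ V le_top).hom.comp (Scheme.ΓSpecIso (CommRingCat.of k)).inv.hom
  have hφ : φ.Smooth := by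
    refine RingHom.Smooth.comp (RingHom.Smooth.of_bijective ?_) hsm
    exact (ConcreteCategory.isIso_iff_bijective (Scheme.ΓSpecIso (CommRingCat.of k)).inv).mp
      inferInstance
  algebraize [φ]
  have : Algebra.Smooth k Γ(Y, V) := hφ
  haveI : _root_.IsReduced Γ(Y, V) := Groth.Agent.H8.Hens.isReduced_of_smooth k Γ(Y, V)
  let _ := Y.presheaf.algebra_section_stalk ⟨y, hyV⟩
  have := hV.isLocalization_stalk ⟨y, hyV⟩
  exact isReduced_localizationPreserves (hV.primeIdealOf ⟨y, hyV⟩).asIdeal.primeCompl _
    inferInstance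

/-- The local ring at a node is reduced. -/
theorem isReduced_stalk_of_isNode (k : Type u) [Field k] (Y : Scheme.{u})
    [Y.Over (Spec (CommRingCat.of k))] [LocallyOfFiniteType (Y ↘ Spec (CommRingCat.of k))]
    (y : Y) (hnode : Curv2.IsNode k Y y) : _root_.IsReduced (Y.presheaf.stalk y) := by
  obtain ⟨-, xb, rfl, hodp⟩ := hnode
  obtain ⟨e, -⟩ := hodp
  haveI hlft : LocallyOfFiniteType (Curv2.bcSnd k Y (AlgebraicClosure k)) :=
    MorphismProperty.pullback_snd _ _ inferInstance
  haveI : IsLocallyNoetherian (Curv2.bc k Y (AlgebraicClosure k)) :=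
    LocallyOfFiniteType.isLocallyNoetherian (Curv2.bcSnd k Y (AlgebraicClosure k))
  haveI hQ := isReduced_quot (AlgebraicClosure k)
  haveI hcompl : _root_.IsReduced (AdicCompletion
      (IsLocalRing.maximalIdeal ((Curv2.bc k Y (AlgebraicClosure k)).presheaf.stalk xb))
      ((Curv2.bc k Y (AlgebraicClosure k)).presheaf.stalk xb)) :=
    isReduced_of_injective e.toRingHom e.injective
  haveI hO : _root_.IsReduced ((Curv2.bc k Y (AlgebraicClosure k)).presheaf.stalk xb) :=
    isReduced_of_injective (algebraMap _ (AdicCompletion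
      (IsLocalRing.maximalIdeal ((Curv2.bc k Y (AlgebraicClosure k)).presheaf.stalk xb))
      ((Curv2.bc k Y (AlgebraicClosure k)).presheaf.stalk xb)))
      (fun a b h => AdicCompletion.of_injective _ _ h)
  haveI hfl0 : Flat (Spec.map (CommRingCat.ofHom (algebraMap k (AlgebraicClosure k)))) := by
    rw [HasRingHomProperty.Spec_iff (P := @Flat)]
    exact RingHom.flat_algebraMap_iff.2 inferInstance
  haveI hfl : Flat (Curv2.bcFst k Y (AlgebraicClosure k)) :=
    MorphismProperty.pullback_fst _ _ hfl0
  have hflat := Flat.stalkMap (Curv2.bcFst k Y (AlgebraicClosure k)) xb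
  letI := ((Curv2.bcFst k Y (AlgebraicClosure k)).stalkMap xb).hom.toAlgebra
  haveI : Module.Flat (Y.presheaf.stalk ((Curv2.bcFst k Y (AlgebraicClosure k)) xb))
      ((Curv2.bc k Y (AlgebraicClosure k)).presheaf.stalk xb) := hflat
  haveI : IsLocalHom (algebraMap (Y.presheaf.stalk ((Curv2.bcFst k Y (AlgebraicClosure k)) xb))
      ((Curv2.bc k Y (AlgebraicClosure k)).presheaf.stalk xb)) :=
    inferInstanceAs (IsLocalHom ((Curv2.bcFst k Y (AlgebraicClosure k)).stalkMap xb).hom)
  haveI : Module.FaithfullyFlat (Y.presheaf.stalk ((Curv2.bcFst k Y (AlgebraicClosure k)) xb))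
      ((Curv2.bc k Y (AlgebraicClosure k)).presheaf.stalk xb) :=
    Module.FaithfullyFlat.of_flat_of_isLocalHom
  exact isReduced_of_injective
    (algebraMap (Y.presheaf.stalk ((Curv2.bcFst k Y (AlgebraicClosure k)) xb))
      ((Curv2.bc k Y (AlgebraicClosure k)).presheaf.stalk xb))
    (FaithfulSMul.algebraMap_injective _ _)

/-- A scheme locally of finite type over a field with at-worst-nodal singularities is reduced. -/
theorem isReduced_of_atWorstNodal (k : Type u) [Field k] (Y : Scheme.{u})
    [Y.Over (Spec (CommRingCat.of k))] [LocallyOfFiniteType (Y ↘ Spec (CommRingCat.of k))]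
    (h : Curv2.AtWorstNodal k Y) : IsReduced Y := by
  haveI : JacobsonSpace (Spec (CommRingCat.of k)) := inferInstance
  haveI : JacobsonSpace Y := LocallyOfFiniteType.jacobsonSpace (Y ↘ Spec (CommRingCat.of k))
  have hclosed : ∀ y : Y, IsClosed ({y} : Set Y) → _root_.IsReduced (Y.presheaf.stalk y) := by
    intro y hy
    rcases h y hy with ⟨U, hyU, hsm⟩ | hnode
    · haveI := hsm
      haveI h1 := isReduced_stalk_of_smooth k U.toScheme
        (U.ι ≫ (Y ↘ Spec (CommRingCat.of k))) ⟨y, hyU⟩
      exact isReduced_of_injective (U.stalkIso ⟨y, hyU⟩).inv.hom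
        (ConcreteCategory.bijective_of_isIso (U.stalkIso ⟨y, hyU⟩).inv).1
    · exact isReduced_stalk_of_isNode k Y y hnode
  haveI : ∀ y : Y, _root_.IsReduced (Y.presheaf.stalk y) := by
    intro y
    obtain ⟨y₀, h1, h2⟩ := nonempty_inter_closedPoints (Z := closure {y})
      ⟨y, subset_closure (Set.mem_singleton y)⟩ isClosed_closure.isLocallyClosed
    have hsp : y ⤳ y₀ := specializes_iff_mem_closure.2 h1
    haveI := hclosed y₀ h2
    letI : Algebra (Y.presheaf.stalk y₀) (Y.presheaf.stalk y) :=
      (Y.presheaf.stalkSpecializes hsp).hom.toAlgebra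
    haveI := Groth.Agent.H1.StalkGen.isLocalization_stalkSpecializes hsp
    exact isReduced_localizationPreserves
      (Groth.Agent.H1.StalkGen.primeOf hsp).asIdeal.primeCompl _ inferInstance
  exact isReduced_of_isReduced_stalk Y

end Groth.Agent.H8.NodalNormal
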