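import Mathlib
import Groth.Prelude.Def_CurvBase
import Groth.Prelude.Def_Pi1
import Groth.Agent.Lib.Helper8.NodalNormal.Fib
import Groth.Agent.Lib.Helper8.FlatNormalAsc.StepL

/-!
# Semi-stable curves over a Dedekind domain with normal generic fibre are normal
-/

set_option linter.style.haveILetI false
set_option linter.unusedSectionVars false

universe u

open AlgebraicGeometry CategoryTheory CategoryTheory.Limits TopologicalSpace Opposite TensorProduct

namespace Groth.Agent.H8.NodalNormal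

theorem quot_reduced_of_fiber' (R : Type u) [CommRing R] (B : Type u) [CommRing B]
    [Algebra R B] (m : Ideal R) [m.IsMaximal] (h : _root_.IsReduced (m.Fiber B)) :
    _root_.IsReduced (B ⧸ m.map (algebraMap R B)) := by
  let e0 : (R ⧸ m) ≃ₐ[R] m.ResidueField :=
    AlgEquiv.ofBijective (IsScalarTower.toAlgHom R (R ⧸ m) m.ResidueField)
      (Ideal.bijective_algebraMap_quotient_residueField m)
  let e1 : (B ⧸ m.map (algebraMap R B)) ≃ₐ[B] B ⊗[R] (R ⧸ m) :=
    Algebra.TensorProduct.quotIdealMapEquivTensorQuot B m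
  let e2 : B ⊗[R] (R ⧸ m) ≃ₐ[R] B ⊗[R] m.ResidueField :=
    Algebra.TensorProduct.congr AlgEquiv.refl e0
  let e3 : B ⊗[R] m.ResidueField ≃ₐ[R] m.ResidueField ⊗[R] B :=
    Algebra.TensorProduct.comm R B m.ResidueField
  let e : (B ⧸ m.map (algebraMap R B)) ≃+* m.ResidueField ⊗[R] B :=
    (e1.toRingEquiv.trans e2.toRingEquiv).trans e3.toRingEquiv
  exact isReduced_of_injective e.toRingHom e.injective

section Chart

variable {R : Type u} [CommRing R] {X : Scheme.{u}} (f : X ⟶ Spec (CommRingCat.of R))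
  {V : X.Opens} (hV : IsAffineOpen V) [Algebra R Γ(X, V)]
  (hφ : algebraMap R Γ(X, V) =
    ((Scheme.ΓSpecIso (CommRingCat.of R)).inv ≫ f.appLE ⊤ V le_top).hom)

include hV hφ in
theorem specMap_algebraMap :
    Spec.map (CommRingCat.ofHom (algebraMap R Γ(X, V))) = hV.fromSpec ≫ f := by
  rw [hφ]
  change Spec.map ((Scheme.ΓSpecIso (CommRingCat.of R)).inv ≫ f.appLE ⊤ V le_top) = _
  rw [Spec.map_comp, ← IsAffineOpen.SpecMap_appLE_fromSpec f (isAffineOpen_top _) hV le_top,
    IsAffineOpen.fromSpec_top, Scheme.isoSpec_Spec_inv]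

include hV hφ in
theorem quot_reduced' (s : PrimeSpectrum R) [hs : s.asIdeal.IsMaximal]
    (hred : IsReduced (f.fiber s)) :
    _root_.IsReduced (Γ(X, V) ⧸ s.asIdeal.map (algebraMap R Γ(X, V))) := by
  have hφspec := specMap_algebraMap f hV hφ
  have h1 : IsReduced ((hV.fromSpec ≫ f).fiber s) := by
    haveI hredP : IsReduced (pullback f ((Spec (CommRingCat.of R)).fromSpecResidueField s)) :=
      hred
    have e1 : (hV.fromSpec ≫ f) ≫ 𝟙 (Spec (CommRingCat.of R)) = hV.fromSpec ≫ f :=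
      Category.comp_id _
    have e2 : (Spec (CommRingCat.of R)).fromSpecResidueField s ≫
        𝟙 (Spec (CommRingCat.of R)) = 𝟙 _ ≫
        (Spec (CommRingCat.of R)).fromSpecResidueField s := by simp
    haveI : IsOpenImmersion hV.fromSpec := hV.isOpenImmersion_fromSpec
    have hoi := Scheme.pullback_map_isOpenImmersion (hV.fromSpec ≫ f)
      ((Spec (CommRingCat.of R)).fromSpecResidueField s) f
      ((Spec (CommRingCat.of R)).fromSpecResidueField s)
      hV.fromSpec (𝟙 _) (𝟙 _) e1 e2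
    exact @isReduced_of_isOpenImmersion _ _ _ hoi hredP
  rw [← hφspec] at h1
  have h4 : IsReduced (Spec (CommRingCat.of (s.asIdeal.Fiber Γ(X, V)))) := by
    haveI : IsReduced ((Arrow.leftFunc).obj (Arrow.mk ((Spec.map (CommRingCat.ofHom
      (algebraMap R Γ(X, V)))).fiberToSpecResidueField s))) := h1
    have hiso : IsIso (Arrow.leftFunc.mapIso
      (Spec.fiberToSpecResidueFieldIso R Γ(X, V) s)).inv :=
      inferInstance
    exact @isReduced_of_isOpenImmersion _ _ (Arrow.leftFunc.mapIso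
      (Spec.fiberToSpecResidueFieldIso R Γ(X, V) s)).inv
      (@IsOpenImmersion.of_isIso _ _ _ hiso) this
  have h5 : _root_.IsReduced (s.asIdeal.Fiber Γ(X, V)) :=
    (affine_isReduced_iff _).1 h4
  exact quot_reduced_of_fiber' R Γ(X, V) s.asIdeal h5

end Chart

theorem main3 {R : Type u} [CommRing R] [IsDedekindDomain R]
    {X : Scheme.{u}} (f : X ⟶ Spec (CommRingCat.of R)) (hf : Curv2.IsNodalFamily f)
    (hgen : ∀ x : X, (f.base x).asIdeal = ⊥ →
      IsDomain (X.presheaf.stalk x) ∧ IsIntegrallyClosed (X.presheaf.stalk x)) :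
    ∀ x : X, IsDomain (X.presheaf.stalk x) ∧ IsIntegrallyClosed (X.presheaf.stalk x) := by
  obtain ⟨hflat, hlfp, hfib⟩ := hf
  haveI := hflat
  haveI := hlfp
  have hfibred : ∀ s : Spec (CommRingCat.of R), IsReduced (f.fiber s) := by
    intro s
    haveI hl : LocallyOfFiniteType (f.fiberToSpecResidueField s) :=
      MorphismProperty.pullback_snd _ _ inferInstance
    exact @isReduced_of_atWorstNodal ((Spec (CommRingCat.of R)).residueField s) _ (f.fiber s)
      ⟨f.fiberToSpecResidueField s⟩ hl (hfib s).2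
  intro x
  obtain ⟨V, hV, hxV, -⟩ := exists_isAffineOpen_mem_and_subset (x := x) (U := ⊤) trivial
  letI algB : Algebra R Γ(X, V) :=
    ((Scheme.ΓSpecIso (CommRingCat.of R)).inv ≫ f.appLE ⊤ V le_top).hom.toAlgebra
  have hφ : algebraMap R Γ(X, V) =
      ((Scheme.ΓSpecIso (CommRingCat.of R)).inv ≫ f.appLE ⊤ V le_top).hom := rfl
  have hφspec := specMap_algebraMap f hV hφ
  haveI : IsLocallyNoetherian X := LocallyOfFiniteType.isLocallyNoetherian f
  haveI : IsNoetherianRing Γ(X, V) := IsLocallyNoetherian.component_noetherian ⟨V, hV⟩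
  haveI : Module.Flat R Γ(X, V) := by
    have h1 : (f.appLE ⊤ V le_top).hom.Flat :=
      HasRingHomProperty.appLE @Flat f inferInstance ⟨⊤, isAffineOpen_top _⟩ ⟨V, hV⟩ le_top
    have h2 : (Scheme.ΓSpecIso (CommRingCat.of R)).inv.hom.Flat :=
      RingHom.Flat.of_bijective (ConcreteCategory.bijective_of_isIso _)
    exact RingHom.Flat.comp h2 h1
  have hredB : ∀ (p : Ideal R) [p.IsPrime], p.height = 1 → ∀ (b : Γ(X, V)) (m : ℕ),
      b ^ m ∈ p.map (algebraMap R Γ(X, V)) → b ∈ p.map (algebraMap R Γ(X, V)) := by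
    intro p hp hph b m hb
    have hp0 : p ≠ ⊥ := by
      rintro rfl
      rw [Ideal.height_bot] at hph
      exact zero_ne_one hph
    haveI hpm : p.IsMaximal := hp.isMaximal hp0
    let s : PrimeSpectrum R := ⟨p, hp⟩
    haveI : s.asIdeal.IsMaximal := hpm
    haveI hq : _root_.IsReduced (Γ(X, V) ⧸ p.map (algebraMap R Γ(X, V))) :=
      quot_reduced' f hV hφ s (hfibred s)
    have h1 : (Ideal.Quotient.mk (p.map (algebraMap R Γ(X, V))) b) ^ m = 0 := by
      rw [← map_pow, Ideal.Quotient.eq_zero_iff_mem]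
      exact hb
    have h2 := IsReduced.eq_zero _ (⟨m, h1⟩ : IsNilpotent _)
    exact Ideal.Quotient.eq_zero_iff_mem.1 h2
  have hgenB : ∀ (Q : Ideal Γ(X, V)) [Q.IsPrime], Q.comap (algebraMap R Γ(X, V)) = ⊥ →
      IsDomain (Localization.AtPrime Q) ∧ IsIntegrallyClosed (Localization.AtPrime Q) := by
    intro Q hQ hQR
    let y' : PrimeSpectrum Γ(X, V) := ⟨Q, hQ⟩
    have hy : hV.fromSpec y' ∈ V := by
      have h0 : hV.fromSpec y' ∈ Set.range hV.fromSpec := ⟨y', rfl⟩
      rw [hV.range_fromSpec] at h0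
      exact h0
    have hfy : (f.base (hV.fromSpec y')).asIdeal = ⊥ := by
      have h1 : f.base (hV.fromSpec y') =
          (Spec.map (CommRingCat.ofHom (algebraMap R Γ(X, V)))).base y' := by
        rw [hφspec]
        rfl
      rw [h1]
      exact hQR
    obtain ⟨hD, hN⟩ := hgen (hV.fromSpec y') hfy
    let _ := TopCat.Presheaf.algebra_section_stalk X.presheaf (⟨hV.fromSpec y', hy⟩ : V)
    have hloc : IsLocalization.AtPrime (X.presheaf.stalk (hV.fromSpec y')) Q :=
      hV.isLocalization_stalk' y' hy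
    let e' := IsLocalization.algEquiv Q.primeCompl (Localization.AtPrime Q)
      (X.presheaf.stalk (hV.fromSpec y'))
    exact ⟨e'.toMulEquiv.isDomain _,
      @IsIntegrallyClosed.of_equiv _ _ _ _ e'.symm.toRingEquiv hN⟩
  have key := Groth.Agent.H8.FlatNormalAsc.normal_atPrime (A := R) (B := Γ(X, V)) hredB hgenB
    (hV.primeIdealOf ⟨x, hxV⟩).asIdeal
  let _ := TopCat.Presheaf.algebra_section_stalk X.presheaf (⟨x, hxV⟩ : V)
  have hloc := hV.isLocalization_stalk ⟨x, hxV⟩
  let eq := IsLocalization.algEquiv (hV.primeIdealOf ⟨x, hxV⟩).asIdeal.primeCompl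
    (Localization.AtPrime (hV.primeIdealOf ⟨x, hxV⟩).asIdeal) (X.presheaf.stalk x)
  haveI := key.1
  exact ⟨eq.symm.toMulEquiv.isDomain _,
    @IsIntegrallyClosed.of_equiv _ _ _ _ eq.toRingEquiv key.2⟩

end Groth.Agent.H8.NodalNormal
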